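import Cfsg.Agent.KM.Sp.Eng
import Cfsg.Agent.PQ.Spor.Tabs
import Cfsg.Agent.TH.Spor.J3Tab

/-!
# BH, `Row2` : certificates for the sporadic groups with an outer automorphism (helper67)
-/

set_option autoImplicit false
set_option maxRecDepth 100000

namespace Cfsg.Agent.BH.Row2A

open Cfsg Cfsg.Agent.TAB Cfsg.Agent.TAB.Eng Cfsg.Agent.TAB.Use Cfsg.Agent.KM.Sp
open Cfsg.Agent.TAB.Sm2 (mkRows)

theorem okM12 : Ok Sm2.M12.dat (mkRows Sm2.M12.rA Sm2.M12.rB) [] 2 3 [] :=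
    ⟨⟨6, [6, 4, 6, 2, 3, 6, 6, 2, 2, 3, 6, 6, 2, 2], [0, 11, 0, 11, 10, 0, 0, 11, 11, 10, 0, 0, 11, 11], [(0, 5, [(1,
    3)], [(0, 29), (2, 1), (5, 31), (6, 31)]), (3, 3, [], []), (4, 3, [(1, 1)], []), (7, 3, [], []), (13, 3, [], [])],
    [(0, [])]⟩,
    by decide +kernel⟩

theorem okM22 : Ok Sm2.M22.dat (mkRows Sm2.M22.rA Sm2.M22.rB) [] 2 3 [] :=
    ⟨⟨7, [7, 7, 6, 7, 7, 6, 6, 7, 7, 6], [0, 0, 4, 0, 0, 4, 4, 0, 0, 5], [(0, 5, [(1, 1)], [(0, 5), (1, 1), (4, 31)]),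
    (2, 3, [(1, 1)], [(2, 7)]), (5, 3, [], [(5, 1)]), (7, 3, [], [(7, 1)]), (9, 3, [], [(9, 1)])], [(0, [])]⟩,
    by decide +kernel⟩

theorem okTits : Ok Sm2.Tits.dat (mkRows Sm2.Tits.rA Sm2.Tits.rB) [] 2 3 [] :=
    ⟨⟨11, [11, 11, 11, 9, 11, 11, 11, 5, 9, 11, 11, 5, 9, 5, 11], [0, 0, 0, 2, 0, 0, 0, 7, 2, 0, 0, 7, 2, 7, 0], [(0,
    9, [(-1, 1), (1, 3)], [(0, 503), (2, 511), (1, 7), (6, 511), (5, 511), (9, 511)]), (3, 3, [(1, 1)], [(3, 1), (8,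
    7)]), (7, 3, [(1, 1)], [(7, 7)]), (13, 3, [], [(13, 1)])], [(0, [])]⟩,
    by decide +kernel⟩

theorem okJ2 : Ok J2.D (mkRows J2.A J2.B) [] 2 3 [] :=
    ⟨⟨7, [7, 7, 4, 4, 2, 7, 2, 3, 4, 2, 2, 7, 2, 3, 5, 2], [0, 0, 5, 10, 5, 0, 5, 8, 10, 5, 5, 0, 5, 10, 1, 5], [(0,
    5, [(1, 2)], [(0, 15), (1, 3), (5, 1)]), (3, 3, [(1, 10)], [(3, 6)]), (4, 3, [], []), (6, 3, [], []), (7, 3, [(1,
    1)], [(7, 7)]), (10, 3, [], [])], [(0, [])]⟩,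
    by decide +kernel⟩

theorem okJ3 : Ok TH.Spor.J3.dat TH.Spor.J3.tab [] 2 3 [] :=
    ⟨⟨7, [7, 7, 4, 1, 7, 1, 4, 7, 0, 3, 5, 0, 0, 3], [0, 0, 5, 11, 0, 11, 5, 0, 11, 5, 3, 11, 11, 5], [(0, 5, [(1,
    12)], [(0, 18), (1, 30)]), (2, 3, [(1, 5)], [(2, 2)]), (3, 3, [], []), (5, 3, [], []), (12, 3, [], []), (13, 3,
    [], [(13, 1)])], [(0, [])]⟩,
    by decide +kernel⟩

theorem okMcL : Ok McL.D McL.RR [] 2 3 [] :=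
    ⟨⟨7, [7, 7, 3, 2, 7, 1, 4, 3, 2, 1, 7, 1, 1, 5, 5, 1, 1, 1], [0, 0, 5, 5, 0, 5, 8, 5, 5, 5, 0, 5, 5, 3, 3, 5, 5,
    5], [(0, 5, [(1, 1)], [(0, 6), (1, 2)]), (2, 3, [(1, 8)], [(2, 2)]), (3, 3, [], []), (5, 3, [], []), (6, 3, [],
    [(6, 1)]), (9, 3, [], []), (13, 3, [], [(13, 1)])], [(0, [])]⟩,
    by decide +kernel⟩

theorem okHS : Ok HS.D (mkRows HS.A HS.B) [] 2 3 [] :=
    ⟨⟨9, [9, 6, 9, 4, 9, 9, 9, 2, 5, 3, 3, 5, 2, 9, 9, 5, 2, 2, 8, 2, 6], [0, 11, 0, 11, 0, 0, 0, 11, 9, 11, 11, 9,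
    11, 0, 0, 9, 11, 17, 3, 11, 15], [(0, 8, [(1, 11)], []), (3, 3, [(1, 2)], [(3, 1), (11, 7)]), (7, 3, [], []), (8,
    3, [(1, 1)], [(8, 1), (15, 7)]), (9, 3, [], [(9, 1)]), (12, 3, [], []), (17, 3, [], [])], [(0, [])]⟩,
    by decide +kernel⟩

theorem okSuz : Ok Sz.dat (mkRows Sz.rowA Sz.rowB) [] 2 3 [1] :=
    ⟨⟨13, [13, 13, 13, 6, 6, 7, 3, 9, 10, 2, 3, 13, 3, 2, 3, 3, 3, 2, 2, 3, 4, 4, 6, 12, 11, 5, 8, 11, 8, 3, 13, 9, 7,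
    13, 5, 13, 8], [0, 0, 0, 27, 18, 15, 16, 15, 5, 18, 16, 0, 16, 18, 16, 16, 24, 18, 18, 16, 16, 27, 16, 2, 3, 27,
    15, 3, 27, 16, 0, 16, 27, 0, 18, 0, 27], [(0, 3, [(1, 2)], [(31, 6)])], []⟩,
    by decide +kernel⟩

theorem okHe : Ok He.D He.RR [] 2 3 [] :=
    ⟨⟨10, [10, 9, 10, 3, 5, 6, 10, 10, 3, 3, 3, 2, 3, 10, 3, 3, 3, 4, 2, 3, 3, 3, 5, 7, 2], [0, 3, 0, 3, 5, 3, 0, 0,
    3, 3, 3, 5, 5, 0, 3, 3, 3, 11, 5, 3, 7, 3, 11, 1, 5], [(0, 9, [(150, 2), (1, 4)], [(0, 2), (2, 450), (7, 362)]),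
    (3, 3, [(1, 1)], [(3, 2)]), (4, 3, [(1, 11)], [(4, 2)]), (8, 3, [(1, 1)], [(8, 1)]), (10, 3, [(1, 2)], [(10, 6)]),
    (11, 3, [], []), (12, 3, [(1, 2)], [(12, 7)]), (19, 3, [], [(19, 1)])], [(0, [])]⟩,
    by decide +kernel⟩

theorem okON : Ok ON.dON ON.tabON [] 2 3 [] :=
    ⟨⟨9, [9, 9, 3, 9, 9, 3, 3, 3, 3, 9, 9, 3, 3, 3, 3, 3, 9, 9, 6, 3, 3, 2], [0, 0, 1, 0, 0, 1, 1, 1, 1, 0, 0, 1, 1,
    1, 1, 1, 0, 0, 14, 1, 1, 4], [(0, 9, [(1, 1), (-100, 8)], [(0, 80), (1, 112)]), (2, 3, [(1, 4)], [(2, 2)]), (5, 3,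
    [(1, 3)], [(5, 6)]), (7, 3, [(1, 4)], [(7, 2)]), (8, 3, [], [(8, 1)]), (12, 3, [], [(12, 1)]), (18, 3, [], [(18,
    1)]), (21, 3, [], [])], [(0, [])]⟩,
    by decide +kernel⟩

theorem okFi22 : Ok F22.dat (mkRows F22.rowA F22.rowB) [(6, 279936)] 2 3 [] :=
    ⟨⟨17, [17, 17, 17, 16, 3, 7, 6, 8, 17, 17, 15, 15, 17, 3, 12, 13, 12, 12, 9, 4, 11, 13, 10, 7, 7, 1, 17, 17, 14,
    14, 1, 1, 2, 7, 2, 1, 13, 12, 14, 12, 12, 12, 14, 13, 12, 13, 0, 1, 1, 17, 1, 7, 2, 11, 0, 1, 12, 12, 1], [0, 0,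
    0, 50, 43, 43, 43, 50, 0, 0, 10, 10, 0, 43, 30, 25, 25, 10, 47, 50, 47, 42, 47, 50, 50, 43, 0, 0, 10, 10, 43, 43,
    43, 47, 50, 50, 40, 25, 13, 10, 10, 10, 13, 41, 10, 41, 43, 50, 43, 0, 50, 47, 50, 25, 43, 50, 10, 10, 50], [(0,
    14, [(-2053, 1), (-2563, 2), (3581, 3), (1531, 5), (1539, 7), (1, 12)], [(0, 3253), (1, 3045), (2, 3061), (8,
    7169), (9, 3045), (12, 15365), (27, 3073)]), (4, 3, [(1, 1)], [(4, 1), (14, 7)]), (5, 7, [(-29, 1), (-1, 2), (59,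
    4), (1, 41)], [(5, 113), (15, 37), (20, 97)]), (6, 5, [(1, 5)], [(6, 31), (18, 31), (21, 3)]), (7, 8, [(1, 8)],
    [(7, 9), (22, 1), (40, 1)]), (13, 3, [(1, 1)], [(13, 7), (33, 7)]), (25, 3, [], []), (31, 3, [], []), (32, 3, [],
    []), (35, 3, [], []), (46, 3, [], [])], [(0, []), (5, [7, 3]), (6, [26]), (7, [26, 1])]⟩,
    by decide +kernel⟩

theorem okFi24 : Ok F24.DT F24.tabT [(3, 153055008), (4, 14285134080), (31, 209952), (43, 3888)] 2 3 [] :=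
    ⟨⟨21, [21, 21, 19, 5, 8, 12, 10, 8, 21, 12, 21, 6, 5, 10, 11, 12, 14, 9, 8, 13, 14, 10, 10, 3, 4, 21, 21, 21, 3,
    3, 5, 5, 3, 2, 10, 5, 3, 6, 15, 16, 16, 5, 16, 4, 16, 16, 7, 16, 14, 2, 3, 7, 3, 3, 2, 21, 2, 7, 8, 3, 10, 3, 4,
    8, 4, 14, 2, 2, 4, 3, 2, 18, 15, 15, 18, 19, 2, 2, 2, 3, 7, 7, 3, 2, 2, 13, 3, 14, 2, 2, 2, 7, 2, 3], [0, 0, 30,
    30, 30, 45, 30, 75, 0, 45, 0, 30, 30, 27, 27, 53, 27, 30, 30, 27, 27, 45, 69, 30, 30, 0, 0, 0, 30, 30, 30, 29, 30,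
    75, 27, 30, 45, 45, 44, 42, 13, 45, 44, 7, 13, 13, 45, 15, 32, 30, 30, 69, 30, 30, 75, 0, 75, 27, 27, 30, 53, 30,
    30, 53, 45, 13, 30, 75, 45, 45, 30, 10, 14, 14, 12, 21, 30, 75, 62, 45, 69, 27, 30, 75, 30, 15, 45, 13, 30, 30,
    30, 27, 30, 45], [(0, 18, [(-100073, 1), (29266, 2), (54996, 3), (1, 5)], [(0, 18460), (1, 94236), (8, 122268),
    (10, 52092), (25, 129340)]), (3, 5, [(1, 34)], []), (4, 8, [(-1, 1), (-1, 2), (1, 3)], [(15, 248)]), (5, 9, [(1,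
    1)], [(5, 503), (16, 7), (40, 511), (45, 511)]), (6, 9, [(184, 1), (-82, 2), (1, 3)], [(6, 15), (19, 415), (42,
    267)]), (7, 5, [(1, 1)], [(7, 29), (22, 1), (48, 31)]), (11, 5, [(1, 5)], [(11, 3), (34, 31)]), (23, 3, [(1, 1)],
    [(23, 1), (50, 7)]), (24, 3, [(1, 1)], [(24, 2)]), (28, 3, [(1, 2)], [(28, 1)]), (29, 3, [(1, 1)], []), (30, 3,
    [(1, 1)], [(58, 6)]), (31, 5, [(1, 1)], [(31, 29), (60, 1)]), (32, 3, [(1, 2)], [(32, 2)]), (33, 3, [], []), (36,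
    3, [(1, 1)], [(36, 7)]), (49, 3, [], []), (52, 3, [(1, 3)], []), (53, 3, [(1, 1)], [(53, 1), (82, 7)]), (54, 3,
    [], []), (56, 3, [], []), (70, 3, [], []), (80, 3, [], [(80, 1)])], [(0, []), (3, [36]), (4, [50]), (5, [2, 3]),
    (6, [8, 7]), (7, [50, 9, 2]), (11, [71, 2]), (31, [29])]⟩,
    by decide +kernel⟩

theorem okHN : Ok HN.dat HN.rows [] 2 3 [] :=
    ⟨⟨14, [14, 11, 14, 6, 3, 14, 8, 14, 4, 6, 4, 2, 6, 8, 7, 2, 6, 14, 1, 5, 4, 8, 7, 3, 6, 2, 5, 10, 13, 3, 2, 1, 2,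
    10, 4, 11, 0, 2, 0, 4, 6, 0, 4], [0, 11, 0, 35, 35, 0, 11, 0, 11, 33, 35, 35, 11, 12, 31, 35, 11, 0, 35, 33, 11,
    12, 31, 33, 12, 33, 11, 3, 14, 33, 35, 35, 33, 3, 11, 36, 35, 33, 35, 11, 12, 35, 11], [(0, 11, [(-684, 2), (683,
    5), (1, 6)], [(0, 1463), (2, 2039), (5, 1367)]), (3, 5, [(1, 12)], [(3, 4)]), (4, 3, [(1, 31)], [(4, 6)]), (8, 4,
    [(1, 2)], [(8, 12)]), (9, 5, [(1, 13)], [(9, 5), (21, 1)]), (10, 3, [(1, 1)], [(10, 5), (22, 7)]), (11, 3, [],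
    []), (15, 3, [], []), (25, 3, [], []), (30, 3, [], []), (32, 3, [], []), (38, 3, [], [])], [(0, []), (3, [17]),
    (8, [5, 17]), (9, [33, 14])]⟩,
    by decide +kernel⟩

end Cfsg.Agent.BH.Row2A
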