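import Cfsg.Agent.BH.Row2A.Alt
import Cfsg.Agent.BH.Row2A.Ct
import Cfsg.Agent.KM.Sp.RowA
import Cfsg.Agent.KFacts.SuzSheet
import Cfsg.Agent.H498.SporOut
import Cfsg.Agent.SB.SporE.Tits.Row

/-!
# BH, `Row2` : the sporadic groups and the Tits group (helper67)

`BH.row2_alt`, `BH.row2_spor`, `BH.row2_tits`, `BH.row2_ree`.
-/

set_option autoImplicit false
set_option maxRecDepth 100000
set_option linter.unusedSectionVars false

namespace Cfsg.Agent.BH.Row2A

open Cfsg Subgroup Cfsg.Agent.BHZ.Spor Cfsg.Agent.TAB Cfsg.Agent.TAB.Eng Cfsg.Agent.TAB.Use Cfsg.Agent.PQ.Spor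
open Cfsg.Agent.KM.Sp

section hom

variable {G : Type} [Group G] [Finite G] {D : Dat} {T : TD G D} {R : TAB.Use.Rows}

/-- the types are orbits of automorphisms -/
theorem hom_dvd (hm : T.Mass) (hH : Sz.Hom T) (hZ : Function.Injective (MulAut.conj : G →* MulAut G)) (g : G) :
    D.cnt (T.ty g) * Nat.card (centralizer ({g} : Set G)) ∣ Nat.card (Out G) * D.N := by
  let A : Subgroup (MulAut G) :=
    { carrier := {σ | ∀ g, T.ty (σ g) = T.ty g}
      one_mem' := fun _ => rfl
      mul_mem' := fun {a c} ha hc g => (ha (c g)).trans (hc g)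
      inv_mem' := fun {a} ha g => by rw [← ha (a⁻¹ g), MulAut.apply_inv_self] }
  have h1 : MulAction.orbit A g = {h | T.ty h = T.ty g} := Set.ext fun h =>
    ⟨fun ⟨σ, e⟩ => e ▸ σ.2 g, fun e => by
      obtain ⟨σ, h1, h2⟩ := hH g h e.symm
      exact ⟨⟨σ, h2⟩, h1⟩⟩
  have h2 := (MulAction.stabilizer A g).index_mul_card
  rw [MulAction.index_stabilizer, h1, ← Nat.card_coe_set_eq] at h2
  rw [← hm.2 _ (T.lt g), ← hm.1, Nat.card_congr (MonoidHom.ofInjective hZ).toEquiv,
    ← card_eq_card_quotient_mul_card_subgroup]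
  refine Dvd.dvd.trans (Nat.mul_dvd_mul_left _ ?_) (h2 ▸ card_subgroup_dvd_card A)
  rw [← card_map_of_injective hZ, ← card_map_of_injective (K := MulAction.stabilizer A g) (subtype_injective A)]
  refine card_dvd_of_le ?_
  rintro _ ⟨c, hc, rfl⟩
  refine ⟨⟨MulAut.conj c, fun x => T.conj x c⟩, ?_, rfl⟩
  show c * g * c⁻¹ = g
  rw [mem_centralizer_singleton_iff.1 hc, mul_inv_cancel_right]

theorem hy_hom (hm : T.Mass) (hT : Tab T R) (hH : Sz.Hom T) (hZ : Function.Injective (MulAut.conj : G →* MulAut G))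
    (X : List (ℕ × ℕ)) (h : ∀ e ∈ X, D.cnt e.1 * e.2 = Nat.card (Out G) * D.N) : Hy T R X :=
  ⟨hm, hT, fun e he g hg => Nat.dvd_of_mul_dvd_mul_left (cnt_pos hm g) (by
    have h1 := hom_dvd hm hH hZ g
    rwa [hg, ← h e he, ← hg] at h1)⟩

end hom

theorem conj_inj {G : Type} [Group G] [IsSimpleGroup G] (h : ¬ IsMulCommutative G) :
    Function.Injective (MulAut.conj : G →* MulAut G) := by
  rw [← MonoidHom.ker_eq_bot_iff]
  refine (IsSimpleGroup.eq_bot_or_eq_top_of_normal _ inferInstance).resolve_right fun e => h ⟨⟨fun a c => ?_⟩⟩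
  exact mul_inv_eq_iff_eq_mul.1 (MulEquiv.congr_fun (show MulAut.conj a = 1 from (e ▸ mem_top a : a ∈ MonoidHom.ker _)) c)

theorem suz [Finite Spor.Suz] : NoA 2 3 Spor.Suz := by
  have := Fact.mk Nat.prime_two
  have H : Hy Sz.td _ [] := Hy.nil Sz.mass Sz.tab
  obtain ⟨z, Q, s⟩ : ∃ (z : Spor.Suz) (Q : Subgroup Spor.Suz), KFacts.SuzSheet.Sheet _ z Q 3 :=
    ⟨_, _, KFacts.SuzSheet.sheet⟩
  have h1 : Sz.td.ty z = 1 := by
    have h2 : Sz.dat.ord (Sz.td.ty z) = 2 := by rw [← Sz.td.ord, orderOf_eq_prime ((sq z).trans s.zz) s.z1]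
    refine ((by decide +kernel : ∀ i < Sz.dat.n, Sz.dat.ord i = 2 → i = 1 ∨ i = 31) _ (Sz.td.lt z) h2).resolve_right
      fun h3 => not_dvd_cent H h3 16 (m := 2 ^ 10) (by decide +kernel) ?_
    refine (Nat.Coprime.pow_left 10 (Nat.coprime_two_left.2 s.odd)).dvd_of_dvd_mul_right ?_
    rw [card_mul_index, Sz.mass.1]
    decide +kernel
  refine okSuz.noA H fun E hE _ y hy h2 => ?_
  obtain ⟨σ, rfl, -⟩ := Sz.hom z y (h1.trans (List.mem_singleton.1 h2).symm)
  have h3 := hE.congr σ
  have h4 := h3.core Q (IsPGroup.of_card s.card) fun x hx => s.normal x (hx z hy).symm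
  have h5 : (Q : Set Spor.Suz) ⊆ {1, z} := fun g hg => s.self g fun y hy => h3.ab y (h4 hy) g (h4 hg)
  have h6 := (Set.ncard_le_ncard h5).trans (Set.ncard_insert_le _ _)
  rw [← Nat.card_coe_set_eq, SetLike.coe_sort_coe, s.card, Set.ncard_singleton] at h6
  omega

variable {S : Type} [Group S] [Finite S]

theorem fi22 [IsSimpleGroup S] (hS : ¬ IsMulCommutative S) (e : S ≃* Spor.Fi22) : NoA 2 3 S := by
  have := Fact.mk Nat.prime_two
  have := Finite.of_equiv S e.toEquiv
  have := e.symm.isSimpleGroup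
  refine (okFi22.noA0 (hy_hom F22.mass F22.tab F22.hom (conj_inj fun h => hS ⟨⟨fun a c => e.injective ?_⟩⟩) _ ?_)).congr e.symm
  · rw [map_mul, map_mul, h.is_comm.comm]
  · rw [S2079.result]
    decide +kernel

theorem fi24 (e : S ≃* Spor.Fi24') : NoA 2 3 S := by
  have := Finite.of_equiv S e.toEquiv
  have := Fact.mk Nat.prime_two
  obtain ⟨X, _, _, ⟨C⟩⟩ := F24C.inF24
  have H : ∀ L : List (ℕ × ℕ), (∀ e ∈ L, e.1 < 94 ∧ F24.kind.getD e.1 0 = 0 ∧ F24.DT.cnt e.1 * e.2 = F24.DT.N) →
      Hy C.T' F24.tabT L := fun L hL =>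
    Hy.of_one C.mass' C.mn.tab L (fun e he => C.one _ (hL e he).1 (hL e he).2.1) fun e he => (hL e he).2.2
  exact (okFi24.noA0 (H _ (by decide +kernel))).congr e.symm

theorem of_one {T : Type} [Group T] (e : Nonempty (S ≃* T)) (h : Nat.card (Out T) = 1) : Row2 S :=
  e.elim fun e => row2_of_out ((H498.SporOut.index_congr e).trans h)

theorem outC_le (h : Nat.card (Out S) ≤ 2) : OutC S := by
  have h1 : 0 < Nat.card (Out S) := Nat.card_pos
  refine outC_of_card ?_
  generalize Nat.card (Out S) = n at h h1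
  interval_cases n <;> decide

end Cfsg.Agent.BH.Row2A

namespace Cfsg.Agent.BH

open Cfsg Cfsg.Agent.BH.Row2A Cfsg.Agent.PQ.Spor Cfsg.Agent.KM.Sp

/-- **the alternating groups** -/
theorem row2_alt : Row2For KM.CAlt := alt

/-- **the small Ree groups** -/
theorem row2_ree : Row2For KM.CRee := ree

/-- **the Tits group** -/
theorem row2_tits : Row2For KM.CTits := fun _ _ _ _ _ h =>
  row2_of_noA (okTits.nt (tTits h) Nat.prime_two) (outC_le (SB.SporE.Tits.out_le h))

/-- **the sporadic groups** -/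
theorem row2_spor : Row2For KM.CSpor := by
  intro S _ _ _ hS h
  have := Fact.mk Nat.prime_two
  have hO := outC_le (S := S) (H498.SporOut.index_le_two h)
  have p2 := Nat.prime_two
  rcases h with h | h | h | h | h | h | h | h | h | h | h | h | h | h | h | h | h | h | h | h | h | h | h | h | h | h
  · exact of_one h S2060.result
  · exact h.elim fun e => row2_of_noA (okM12.nt (tM12.pull e) p2) hO
  · exact h.elim fun e => row2_of_noA (okM22.nt (tM22.pull e) p2) hO
  · exact of_one h S2063.result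
  · exact of_one h S2064.result
  · exact of_one h S2065.result
  · exact h.elim fun e => row2_of_noA (okJ2.nt (tJ2.pull e) p2) hO
  · exact row2_of_noA (okJ3.nt ((TH.Spor.J3.exists_tab h).imp fun _ h => ⟨h.1, h.2.2⟩) p2) hO
  · exact of_one h S2068.result
  · exact of_one h S2069.result
  · exact of_one h S2070.result
  · exact of_one h S2071.result
  · exact h.elim fun e => row2_of_noA (okMcL.nt (tMcL.pull e) p2) hO
  · exact h.elim fun e => row2_of_noA (okHS.nt (tHS.pull e) p2) hO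
  · exact h.elim fun e =>
      have := Finite.of_equiv S e.toEquiv
      row2_of_noA (suz.congr e.symm) hO
  · exact h.elim fun e => row2_of_noA (okHe.nt (tHe.pull e) p2) hO
  · exact of_one h S2077.result
  · exact h.elim fun e => row2_of_noA (okON.nt (tON.pull e) p2) hO
  · exact of_one h S2076.result
  · exact h.elim fun e => row2_of_noA (fi22 hS e) hO
  · exact of_one h S2080.result
  · exact h.elim fun e => row2_of_noA (fi24 e) hO
  · exact h.elim fun e => row2_of_noA (okHN.nt (tHN.pull e) p2) hO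
  · exact of_one h S2083.result
  · exact of_one h S2084.result
  · exact of_one h S2085.result

end Cfsg.Agent.BH
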