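import Cfsg.Agent.BH.Row2A.Gen
import Cfsg.Agent.BHZ.Nil.Alt
import Cfsg.Agent.H105.AltSyl
import Cfsg.Agent.H390.Cyc.OutCard
import Cfsg.Agent.H137.K4.ReeInv
import Cfsg.Agent.H523.FpfCycFam
import Cfsg.Agent.TO.X.Mult
import Cfsg.Agent.S1152
import Cfsg.Agent.S1157
import Cfsg.Agent.S2113

/-!
# BH, `Row2` : the alternating groups and the small Ree groups (helper67)
-/

set_option autoImplicit false
set_option linter.unusedSectionVars false

namespace Cfsg.Agent.BH.Row2A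

open Cfsg Subgroup Equiv Cfsg.Agent.TO Cfsg.Agent.KM.Sp Cfsg.Agent.BHZ.Spor
open Cfsg.Agent.BHZ.Nil (orbClosure)

section alt

variable {α : Type} [Fintype α] [DecidableEq α] {D : Subgroup (alternatingGroup α)}

theorem orb_le {p : ℕ} [Fact p.Prime] (h : LocA p D) : orbClosure D ≤ D := by
  refine h.core _ ?_ fun t ht g hg x => ?_
  · obtain ⟨n, hn⟩ := h.pg.exists_card_eq
    intro ⟨g, hg⟩
    refine ⟨n, Subtype.ext (Subtype.ext (Equiv.ext fun x => ?_))⟩
    obtain ⟨d, hd, h1⟩ := hg x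
    have h2 : ∀ m : ℕ, (g ^ m).1 x = (d ^ m).1 x := by
      intro m
      induction m with
      | zero => simp
      | succ m ih =>
        rw [pow_succ', pow_succ', Subgroup.coe_mul, Subgroup.coe_mul, Perm.mul_apply,
          Perm.mul_apply, ih, h1 _ (pow_mem hd m)]
    have h3 : d ^ p ^ n = 1 := by
      have := pow_card_eq_one' (x := (⟨d, hd⟩ : D))
      rw [hn] at this
      exact congrArg Subtype.val this
    change (g ^ p ^ n).1 x = x
    rw [h2, h3]
    rfl
  · obtain ⟨d, hd, h1⟩ := hg ((t⁻¹).1 x)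
    have h2 : ∀ e ∈ D, ∀ w, (e : alternatingGroup α).1 ((t⁻¹).1 w) = (t⁻¹).1 (e.1 w) := fun e he w =>
      congrArg (fun g : alternatingGroup α => g.1 w) (ht e he).inv_right.eq
    refine ⟨d, hd, fun e he => ?_⟩
    show t.1 (g.1 ((t⁻¹).1 (e.1 x))) = _
    rw [← h2 e he, h1 e he, h2 e he, h2 d hd]
    simp

theorem fix_of_mem (hD : IsPGroup 2 D) {y : alternatingGroup α} (hy : ∀ d ∈ D, Commute d y) (hr : ¬ 2 ∣ orderOf y)
    {x : α} {e : alternatingGroup α} (he : e ∈ D) (hex : e.1 x = y.1 x) : y.1 x = x := by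
  have h1 : ∀ n : ℕ, (y ^ n).1 x = (e ^ n).1 x := by
    intro n
    induction n with
    | zero => simp
    | succ n ih =>
      rw [pow_succ', pow_succ, Subgroup.coe_mul, Subgroup.coe_mul, Perm.mul_apply, Perm.mul_apply, ih, hex]
      exact (congrArg (fun g : alternatingGroup α => g.1 x) (hy _ (pow_mem he n)).eq).symm
  obtain ⟨k, hk⟩ := hD ⟨e, he⟩
  have h2 : (y ^ 2 ^ k).1 x = x := by
    rw [h1, show e ^ 2 ^ k = 1 from congrArg Subtype.val hk]
    rfl
  obtain ⟨m, hm⟩ := exists_pow_eq_self_of_coprime (x := y) (n := 2 ^ k)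
    (Nat.Coprime.pow_left _ ((Nat.Prime.coprime_iff_not_dvd Nat.prime_two).2 hr))
  rw [← hm, Subgroup.coe_pow]
  exact Perm.pow_apply_eq_self_of_apply_eq_self h2 m

/-- an element of odd order which centralizes `D` fixes the points moved by `D` -/
theorem fix_supp [Fact (Nat.Prime 2)] (h : LocA 2 D) {g : alternatingGroup α} (hg : ∀ d ∈ D, Commute d g)
    (hr : ¬ 2 ∣ orderOf g) {x : α} {d : alternatingGroup α} (hd : d ∈ D) (hx : d.1 x ≠ x) : g.1 x = x := by
  classical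
  by_contra h0
  let O : α → Prop := fun w => ∃ e ∈ D, (e : alternatingGroup α).1 x = w
  have hO : ∀ e ∈ D, ∀ w, O ((e : alternatingGroup α).1 w) ↔ O w := by
    intro e he w
    constructor
    · rintro ⟨e', he', h1⟩
      refine ⟨e⁻¹ * e', mul_mem (inv_mem he) he', ?_⟩
      simp only [Subgroup.coe_mul, Perm.mul_apply, Subgroup.coe_inv]
      rw [h1, Perm.coe_inv, Equiv.symm_apply_apply]
    · rintro ⟨e', he', rfl⟩
      exact ⟨e * e', mul_mem he he', rfl⟩
  have hc : ∀ e ∈ D, ∀ w, (e : alternatingGroup α).1 (g.1 w) = g.1 (e.1 w) := fun e he w =>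
    congrArg (fun u : alternatingGroup α => u.1 w) (hg e he).eq
  have h1 : ∀ w, O w → ¬ O (g.1 w) := by
    rintro _ ⟨e, he, rfl⟩ h2
    rw [← hc e he, hO e he] at h2
    obtain ⟨e', he', h3⟩ := h2
    exact h0 (fix_of_mem h.pg hg hr he' h3)
  have h2 : ¬ O (g.1 (g.1 x)) := by
    rintro ⟨e, he, h3⟩
    have h4 := fix_of_mem h.pg (y := g ^ 2) (fun e he => (hg e he).pow_right 2)
      (fun h5 => hr (h5.trans (orderOf_pow_dvd 2))) he (by rw [h3, sq]; rfl)
    obtain ⟨m, hm⟩ := exists_pow_eq_self_of_coprime (x := g) (n := 2)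
      ((Nat.Prime.coprime_iff_not_dvd Nat.prime_two).2 hr)
    refine h0 ?_
    rw [← hm, Subgroup.coe_pow]
    exact Perm.pow_apply_eq_self_of_apply_eq_self h4 m
  let r : Perm α := Perm.ofSubtype (d.1.subtypePerm (hO d hd))
  have r1 : ∀ w, O w → r w = d.1 w := fun w hw => Perm.ofSubtype_apply_of_mem _ hw
  have r2 : ∀ w, ¬ O w → r w = w := fun w hw => Perm.ofSubtype_apply_of_not_mem _ hw
  let u : alternatingGroup α := ⟨r * (g.1 * r * g.1⁻¹), by
    rw [Perm.mem_alternatingGroup, map_mul, map_mul, map_mul, map_inv, mul_inv_cancel_comm, Int.units_mul_self]⟩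
  have u0 : ∀ w, u.1 (g.1 w) = r (g.1 (r w)) := fun w => by simp [u]
  have u1 : ∀ w, O w → u.1 w = d.1 w := fun w hw => by
    obtain ⟨w, rfl⟩ := g.1.surjective w
    rw [u0, r2 w fun h3 => h1 w h3 hw, r1 _ hw]
  have u2 : ∀ w, O w → u.1 (g.1 w) = d.1 (g.1 w) := fun w hw => by
    rw [u0, r1 w hw, r2 _ (h1 _ ((hO d hd w).2 hw)), hc d hd]
  have u3 : ∀ w, ¬ O w → ¬ O (g.1 w) → u.1 (g.1 w) = g.1 w := fun w hw hw' => by rw [u0, r2 w hw, r2 _ hw']
  have hu : u ∈ D := orb_le h fun w => by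
    obtain ⟨w, rfl⟩ := g.1.surjective w
    by_cases h3 : O (g.1 w)
    · exact ⟨d, hd, fun e he => u1 _ ((hO e he _).2 h3)⟩
    by_cases h4 : O w
    · exact ⟨d, hd, fun e he => by rw [hc e he, u2 _ ((hO e he _).2 h4)]⟩
    · exact ⟨1, one_mem _, fun e he => by
        rw [hc e he]
        exact u3 _ (fun h5 => h4 ((hO e he _).1 h5)) fun h5 => h3 ((hO e he _).1 (hc e he w ▸ h5))⟩
  have hx0 : O x := ⟨1, one_mem _, rfl⟩
  have h3 := u3 _ (h1 x hx0) h2
  rw [hc u hu, hc u hu, u1 x hx0] at h3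
  exact hx (g.1.injective (g.1.injective h3))

theorem noA_alt : NoA 2 3 (alternatingGroup α) := by
  classical
  intro D h h8
  have : Fact (Nat.Prime 2) := ⟨Nat.prime_two⟩
  obtain ⟨g, hr, hg, hmax⟩ := h.syl
  let s : Finset α := Finset.univ.filter fun x => ∃ d ∈ D, (d : alternatingGroup α).1 x ≠ x
  let f : alternatingGroup (Fin (Fintype.card s)) →* alternatingGroup α :=
    (alternatingGroup.ofSubtype s).comp (Fintype.equivFin s).altCongrHom.symm.toMonoidHom
  have hf : Function.Injective f := alternatingGroup.ofSubtype_injective.comp (MulEquiv.injective _)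
  have h1 : ∀ k, k ∈ f.range ↔ (k : Perm α).support ⊆ s := fun k => by
    rw [MonoidHom.range_comp, MonoidHom.range_eq_top.2 (MulEquiv.surjective _), ← MonoidHom.range_eq_map,
      alternatingGroup.mem_range_ofSubtype_iff]
  have h2 : D ≤ f.range := fun d hd => (h1 d).2 fun x hx =>
    Finset.mem_filter.2 ⟨Finset.mem_univ _, d, hd, Perm.mem_support.1 hx⟩
  obtain ⟨P, hP⟩ := (h.pg.comap_of_injective f hf).exists_le_sylow
  have h3 : (P : Subgroup _).map f ≤ D := hmax _ (P.isPGroup'.map f)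
    (by rw [← map_comap_eq_self h2]; exact map_mono hP) (by
      rintro _ ⟨k, -, rfl⟩
      refine Subtype.ext (Perm.Disjoint.commute fun x => ?_).eq
      by_cases hx : (f k).1 x = x
      · exact .inl hx
      · obtain ⟨d, hd, h4⟩ := (Finset.mem_filter.1 ((h1 _).1 ⟨k, rfl⟩ (Perm.mem_support.2 hx))).2
        exact .inr (fix_supp h hg hr hd h4))
  by_cases h4 : 6 ≤ Fintype.card s
  · exact H105.alt_sylow_two_not_comm _ h4 P (comm_of_forall fun a ha c hc => hf (by
      rw [map_mul, map_mul]; exact h.ab _ (h3 ⟨a, ha, rfl⟩) _ (h3 ⟨c, hc, rfl⟩)))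
  have h5 := h8.trans (card_dvd_of_le h2)
  rw [← Nat.card_congr (MonoidHom.ofInjective hf).toEquiv] at h5
  revert h5
  generalize Fintype.card s = n at h4
  intro h5
  by_cases h6 : n ≤ 1
  · have h7 := h5.trans (card_subgroup_dvd_card _)
    rw [Nat.card_perm, Nat.card_fin] at h7
    interval_cases n <;> simp at h7
  have : Nontrivial (Fin n) := Fin.nontrivial_iff_two_le.2 (by omega)
  rw [nat_card_alternatingGroup, Nat.card_fin] at h5
  have h7 : n < 6 := not_le.1 h4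
  interval_cases n <;> simp [Nat.factorial] at h5 h6

end alt

/-- **the alternating groups** -/
theorem alt : Row2For KM.CAlt := by
  rintro S _ _ _ hS ⟨n, hn, ⟨e⟩⟩
  have : Fact (Nat.Prime 2) := ⟨Nat.prime_two⟩
  refine row2_of_noA (noA_alt.congr e.symm) (outC_of_card ?_)
  by_cases h6 : n = 6
  · subst h6
    rw [H390.Cyc.out_six ⟨e⟩]
  · rw [H390.Cyc.out_alt hS hn h6 ⟨e⟩]
    decide

/-- **the small Ree groups** -/
theorem ree : Row2For KM.CRee := by
  rintro S _ _ _ - ⟨-, h⟩ K _ _ σ M b Q θ H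
  have : Fact (Nat.Prime 2) := ⟨Nat.prime_two⟩
  by_cases h1 : 2 ^ 3 ∣ Nat.card Q
  swap
  · obtain ⟨β, hβ⟩ := H523.cycOut_ree h
    refine .inr (.inl ⟨idx_of_le (le_four H h1), outC_of_comm (comm_le fun x y => ?_)⟩)
    have h2 : ∀ x : Out S, x ∈ zpowers (β : Out S) := fun x => by
      obtain ⟨a, rfl⟩ := QuotientGroup.mk_surjective x
      obtain ⟨g, k, rfl⟩ := hβ a
      rw [QuotientGroup.mk_mul, (QuotientGroup.eq_one_iff (N := Inn S) (MulAut.conj g)).2 ⟨g, rfl⟩, one_mul, QuotientGroup.mk_zpow]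
      exact zpow_mem (mem_zpowers _) k
    obtain ⟨i, rfl⟩ := h2 x
    obtain ⟨j, rfl⟩ := h2 y
    exact zpow_mul_comm _ _ _
  refine .inr (.inr ⟨?_, autOK_of_oi H fun φ k hk => ?_⟩)
  swap
  · obtain ⟨s, hs⟩ := H137.K4.inner_ree h φ ⟨k, 1, fun x => by rw [hk]; simp⟩
    exact ⟨s, MulEquiv.ext fun x => (hs x).symm⟩
  obtain ⟨F, _, _, m, hm, hF, ⟨e⟩⟩ := h
  have := Finite.of_equiv S e.toEquiv
  have hK := H.qs.1.commutator_eq_top
  have h2 : Function.Injective σ := by
    rw [← MonoidHom.ker_eq_bot_iff, H.ker, ← card_eq_one]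
    exact Nat.dvd_one.1 ((X.zd_of_cyc (S2113.result hm hF)).congr e K σ hK H.surj H.ker H.cyc)
  let f : K →* ↥(Lie.twistedG2 F (3 ^ m)) := e.toMonoidHom.comp σ
  have hf : Function.Injective f := e.injective.comp h2
  obtain ⟨P, hP⟩ := ((BHZ.Nil.isPGroup_defect H.can.hD).map f).exists_le_sylow
  obtain ⟨a, haH, ha1, ha2⟩ := S1157.exists_involution hF
  have h3 : Q.map f = P := eq_of_le_of_card_ge hP (by
    rw [((S1152.result hF a haH ha1 ha2).2 P).1, card_map_of_injective hf]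
    exact Nat.le_of_dvd Nat.card_pos h1)
  have h4 : centralizer (Q : Set K) ≤ Q := fun c hc => by
    have h5 : f c ∈ Q.map f := by
      rw [h3, ← (S1157.result hm hF P).1, ← h3]
      rintro _ ⟨d, hd, rfl⟩
      rw [← map_mul, ← map_mul, hc d hd]
    obtain ⟨d, hd, h6⟩ := h5
    exact hf h6 ▸ hd
  obtain ⟨y, hy⟩ := exists_prime_orderOf_dvd_card' 2 (G := K)
    (((dvd_pow_self 2 (by decide)).trans h1).trans (card_subgroup_dvd_card Q))
  rw [H729.CharTwoBlock.eq_principal_of_centralizer H.can.hM H.can.hb H.can.hD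
    ((BHZ.Nil.isPGroup_defect H.can.hD).to_le h4)]
  exact three_prin H.can.hM hK (y := y) (hy ▸ dvd_rfl)

end Cfsg.Agent.BH.Row2A
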