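import Cfsg.Agent.BH.Defs
import Cfsg.Agent.KM.Sp.Loc
import Cfsg.Agent.TO.RedA
import Cfsg.Agent.TO.Can
import Cfsg.Agent.R2.RkInt.Quasi
import Cfsg.Agent.H651.Two.Base
import Cfsg.Agent.H646.DegSum
import Cfsg.Agent.H703.K6.Facts
import Cfsg.Agent.H599.Galois
import Cfsg.Agent.H729.CharTwoBlock

/-!
# BH, `Row2` : general tools (helper67)

* `row2_of_noA` : no abelian defect group of order at least eight;
* `OI S` : the outer automorphism group has odd order; `autOK_of_oi`;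
* `row2_of_out` : no outer automorphisms; `three_prin` : principal blocks of perfect groups.
-/

set_option autoImplicit false
set_option linter.unusedSectionVars false

namespace Cfsg.Agent.BH.Row2A

open Cfsg Subgroup Cfsg.Agent.TO Cfsg.Agent.KM.Sp Cfsg.Agent.BHZ.Spor
open Cfsg.Agent.KM.Two (Idx)

variable {p : ℕ} {M : Ideal AlgInt} {K : Type} [Group K] {b : Set (IrrCharacter K)} {Q : Subgroup K} {θ : K → ℂ}
  {S : Type} [Group S] {σ : K →* S}

theorem loc [Finite K] [Fact p.Prime] (H : QHyp p M b Q θ σ) : LocA p (Q.map σ) :=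
  (locA_of_block H.can.hM H.can.hb H.can.hD
    (comm_of_forall fun a ha _ hc => mem_centralizer_iff.1 (H.can.ab hc) a ha)).quot σ H.surj H.ker.le

theorem dvd_map [Finite K] [hp : Fact p.Prime] (H : QHyp p M b Q θ σ) {d : ℕ} (h : p ^ d ∣ Nat.card Q) :
    p ^ d ∣ Nat.card (Q.map σ) := by
  refine Nat.Coprime.dvd_of_dvd_mul_right ?_ (h.trans (card_map_mul σ Q))
  rw [H.ker]
  exact ((Nat.Prime.coprime_iff_not_dvd hp.out).2 H.zp).pow_left d

theorem idx_of_le (h : Nat.card Q ≤ 4) : Idx Q θ :=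
  ⟨⊥, bot_le, by rwa [relIndex_bot_left], fun t _ r hr => by rw [mem_bot.1 hr, mul_one, mul_inv_cancel]⟩

theorem le_four [Finite K] (H : QHyp 2 M b Q θ σ) (h : ¬ 2 ^ 3 ∣ Nat.card Q) : Nat.card Q ≤ 4 := by
  have : Fact (Nat.Prime 2) := ⟨Nat.prime_two⟩
  obtain ⟨n, hn⟩ := (BHZ.Nil.isPGroup_defect H.can.hD).exists_card_eq
  rw [hn] at h ⊢
  exact Nat.pow_le_pow_right (n := 2) two_pos (show n ≤ 2 from not_lt.1 fun h1 => h (pow_dvd_pow 2 h1))

theorem outC_of_comm [Finite S] (h : commutator (MulAut S) ≤ Inn S) : OutC S :=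
  ⟨(commutator_le_left _ _).trans h, 1, one_mem _, 0, by rw [one_pow]; exact one_mem _, one_dvd _, by
    rw [relIndex_eq_one.2 (sup_le (h.trans le_sup_right) le_sup_right)]
    decide⟩

theorem comm_le (h : ∀ x y : Out S, x * y = y * x) : commutator (MulAut S) ≤ Inn S := by
  rw [commutator_def, commutator_le]
  intro a _ c _
  rw [← QuotientGroup.eq_one_iff, ← QuotientGroup.mk'_apply, map_commutatorElement, commutatorElement_eq_one_iff_mul_comm]
  exact h _ _

theorem outC_of_card [Finite S] (h : Nat.card (Out S) ∣ 4) : OutC S := by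
  have : Fact (Nat.Prime 2) := ⟨Nat.prime_two⟩
  refine outC_of_comm (comm_le fun x y => ?_)
  obtain ⟨n, hn, h1⟩ := (Nat.dvd_prime_pow Nat.prime_two (m := 2)).1 h
  interval_cases n
  · exact (Nat.card_eq_one_iff_unique.1 h1).1.elim _ _
  · have := isCyclic_of_prime_card (p := 2) h1
    exact (IsCyclic.commGroup (α := Out S)).mul_comm x y
  · exact (IsPGroup.commGroupOfCardEqPrimeSq h1).mul_comm x y

/-- **small defect groups** -/
theorem row2_of_noA (h : NoA 2 3 S) (hO : OutC S) : Row2 S := fun _ _ _ _ _ _ _ _ H =>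
  have : Fact (Nat.Prime 2) := ⟨Nat.prime_two⟩
  .inr (.inl ⟨idx_of_le (le_four H fun h1 => h _ (loc H) (dvd_map H h1)), hO⟩)

theorem exists_out (H : QHyp p M b Q θ σ) (α : MulAut K) : ∃ β : MulAut S, ∀ g, σ (α g) = β (σ g) :=
  exists_ind H.surj (by rw [H.ker]; exact fun _ => aut_center α) (by rw [H.ker]; exact fun _ => aut_center α⁻¹)

theorem inner (H : QHyp p M b Q θ σ) {α : MulAut K} {s : S} (h : ∀ g, σ (α g) = s * σ g * s⁻¹) : α ∈ Inn K := by
  obtain ⟨t, rfl⟩ := H.surj s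
  refine ⟨t, (R2.RkInt.eq_of_perfect H.qs.1 _ _ fun g => ?_).symm⟩
  rw [← H.ker, MonoidHom.mem_ker, map_mul, map_inv, h, inv_mul_eq_one]
  simp

variable (S) in
/-- the automorphisms of `2`-power order are inner -/
def OI : Prop := ∀ (φ : MulAut S) (k : ℕ), φ ^ 2 ^ k = 1 → φ ∈ Inn S

theorem autOK_of_oi [Finite K] (H : QHyp 2 M b Q θ σ) (h : OI S) : AutOK 2 b Q θ := fun A A₀ hA => by
  exfalso
  have h2 : (A₀.subgroupOf A).index = 2 := hA.index
  obtain ⟨α, hα⟩ : ∃ α : A, α ∉ A₀.subgroupOf A := by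
    by_contra h0
    push Not at h0
    rw [(eq_top_iff' _).2 h0, index_top] at h2
    omega
  obtain ⟨k, m, hm, h3⟩ := Nat.exists_eq_two_pow_mul_odd (orderOf_pos α).ne'
  obtain ⟨β, hβ⟩ := exists_out H (α.1 ^ m)
  have h4 : ∀ n g, σ (((α.1 ^ m) ^ n) g) = (β ^ n) (σ g) := fun n => by
    induction n with
    | zero => exact fun _ => rfl
    | succ n ih => exact fun g => by rw [pow_succ', pow_succ', MulAut.mul_apply, MulAut.mul_apply, hβ, ih]
  have h5 : (α.1 ^ m) ^ 2 ^ k = 1 := by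
    rw [← pow_mul, mul_comm, ← h3, ← Subgroup.coe_pow, pow_orderOf_eq_one, OneMemClass.coe_one]
  obtain ⟨s, hs⟩ := h β k (MulEquiv.ext fun x => by
    obtain ⟨g, rfl⟩ := H.surj x
    rw [← h4, h5]
    rfl)
  have h6 : α ^ m ∈ A₀.subgroupOf A := hA.inn (inner H (s := s) fun g => (hβ g).trans (by rw [← hs]; rfl))
  obtain ⟨j, rfl⟩ := hm
  rw [pow_succ, pow_mul, mul_mem_cancel_left (pow_mem (sq_mem_of_index_two h2 α) j)] at h6
  exact hα h6

theorem three_of_inner [Finite K] (h : ∀ α : MulAut K, α ∈ Inn K) (h3 : 3 ≤ Nat.card b) : Three b := by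
  have : Finite b := Nat.finite_of_card_ne_zero (by omega)
  obtain ⟨x, y, z, hx, hy, hz, h1, h2, h4⟩ := (Set.two_lt_ncard_iff (Set.toFinite b)).1 h3
  refine ⟨x, ⟨x, hx, rfl⟩, y, ⟨y, hy, rfl⟩, z, ⟨z, hz, rfl⟩, fun α => ?_⟩
  obtain ⟨g, rfl⟩ := h α
  rw [irr_comp_conj x.2, irr_comp_conj y.2]
  exact ⟨fun e => h1 (Subtype.ext e), fun e => h2 (Subtype.ext e), fun e => h4 (Subtype.ext e)⟩

/-- **no outer automorphisms** -/
theorem row2_of_out [Finite S] (h : Nat.card (Out S) = 1) : Row2 S := fun K _ _ σ M b Q θ H => by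
  have : Fact (Nat.Prime 2) := ⟨Nat.prime_two⟩
  have h1 : ∀ φ : MulAut S, φ ∈ Inn S := fun φ =>
    (QuotientGroup.eq_one_iff φ).1 ((Nat.card_eq_one_iff_unique.1 h).1.elim _ _)
  by_cases h2 : Nat.card Q ≤ 4
  · exact .inr (.inl ⟨idx_of_le h2, outC_of_card (h ▸ one_dvd _)⟩)
  refine .inr (.inr ⟨three_of_inner (fun α => ?_)
    (H651.Two.three_le_card_block H.can.hM H.can.hb H.can.hD (by omega)), autOK_of_oi H fun φ _ _ => h1 φ⟩)
  obtain ⟨β, hβ⟩ := exists_out H α
  obtain ⟨s, rfl⟩ := h1 β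
  exact inner H (s := s) hβ

/-- **principal blocks** -/
theorem three_prin [Finite K] [Fact p.Prime] (hM : IsPModular p M) (hK : commutator K = ⊤) {y : K} (hy : p ∣ orderOf y) :
    Three (principalBlock M K) := by
  classical
  by_contra h
  have := Fintype.ofFinite K
  have := Characters.Core.finite_irr (G := K)
  have := Fintype.ofFinite (IrrCharacter K)
  have := hM.2.1.isPrime
  let o : IrrCharacter K := ⟨fun _ => 1, Blocks.Basic.isIrrCharacter_one⟩
  have ho : o ∈ principalBlock M K := Blocks.Basic.mem_blockOf_self o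
  have h1 := H646.DegSum.sum_one_mul_eq_zero hM (B := principalBlock M K) ⟨o, rfl⟩ hy
  rw [← Finset.add_sum_erase _ _ (Finset.mem_filter.2 ⟨Finset.mem_univ o, ho⟩)] at h1
  obtain h2 | ⟨x, hx⟩ := ((Finset.univ.filter (· ∈ principalBlock M K)).erase o).eq_empty_or_nonempty
  · rw [h2, Finset.sum_empty] at h1
    simp [o] at h1
  have h3 : ∀ z ∈ (Finset.univ.filter (· ∈ principalBlock M K)).erase o, (z : K → ℂ) 1 = (x : K → ℂ) 1 := fun z hz => by
    by_contra h4
    refine h ⟨o, ⟨o, ho, rfl⟩, x, ⟨x, (Finset.mem_filter.1 (Finset.mem_of_mem_erase hx)).2, rfl⟩,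
      z, ⟨z, (Finset.mem_filter.1 (Finset.mem_of_mem_erase hz)).2, rfl⟩, fun α => ⟨fun e => ?_, fun e => ?_, fun e => ?_⟩⟩
    · exact Finset.ne_of_mem_erase hx (Subtype.ext e.symm)
    · exact Finset.ne_of_mem_erase hz (Subtype.ext e.symm)
    · exact h4 (by rw [← e, Function.comp_apply, map_one])
  rw [Finset.sum_congr rfl fun z hz => by rw [h3 z hz], ← Finset.mul_sum] at h1
  obtain ⟨n, hn⟩ := Characters.Core.isCharacter_apply_one (Characters.Core.isIrr_isCharacter x.2)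
  have h4 : (n : ℂ) ≠ 0 := hn ▸ Blocks.ConvCentral.irr_one_ne_zero x.2
  have h5 : (n : ℤ) ∣ -1 := H599.Galois.nat_dvd_of_integral (by exact_mod_cast h4) (by
    refine (congrArg (IsIntegral ℤ) ?_).mpr (IsIntegral.sum (s := (Finset.univ.filter (· ∈ principalBlock M K)).erase o)
      (fun z : IrrCharacter K => (z : K → ℂ) y) fun z _ => Blocks.Central.isIntegral_irr z.2 y)
    rw [hn] at h1
    push_cast
    rw [div_eq_iff h4]
    simp only [o, mul_one] at h1
    linear_combination -h1)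
  refine Finset.ne_of_mem_erase hx (Subtype.ext (H703.K6.eq_one_of_degree hK x ?_))
  rw [dvd_neg, ← Int.natCast_one, Int.natCast_dvd_natCast, Nat.dvd_one] at h5
  rw [charDegree, hn, h5]
  simp

end Cfsg.Agent.BH.Row2A
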